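import Cfsg.Agent.Coset.U62.Main
import Cfsg.Prelude.Def_SporadicB

/-! The point stabiliser in `Cfsg.Spor.Fi22` is a non-split double cover of `PSU(6, 2)`. -/

set_option autoImplicit false
set_option maxRecDepth 100000
set_option Elab.async false

namespace CfsgLib.Coset.U62

open CfsgLib.Coset.G24 (F4 eq_of_beqL)
open Matrix

/-- A base of the action of `Cfsg.Spor.Fi22`. -/
def base : List (Fin 3510) := [0, 1, 192, 54, 8]

theorem base_bot : baseStab Fi22.ρ base = ⊥ := by
  have := Fi22.card_le.1
  refine baseStab_eq_bot (N := 64561751654400) (by decide) Fi22.card_le.2 base ?_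
  have h5 : Nat.card (baseStab Fi22.ρ base) ≤
      Nat.card (baseStab Fi22.ρ [(0 : Fin 3510), 1, 192, 54, 8]) := le_rfl
  have h4 := orbit_step Fi22.matches_ρ (base := [(0 : Fin 3510), 1, 192, 54]) (β := 8) (m := 16) (dm := 4)
    (gens := Fi22.Orb.B4G) (P := Fi22.Orb.B4P) (Inv := Fi22.Orb.B4Inv)
    (by decide +kernel) (by decide +kernel) (by decide +kernel) h5
  have h3 := orbit_step Fi22.matches_ρ (base := [(0 : Fin 3510), 1, 192]) (β := 54) (m := 243) (dm := 8)
    (gens := Fi22.Orb.B3G) (P := Fi22.Orb.B3P) (Inv := Fi22.Orb.B3Inv)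
    (by decide +kernel) (by decide +kernel) (by decide +kernel) h4
  have h2 := orbit_step Fi22.matches_ρ (base := [(0 : Fin 3510), 1]) (β := 192) (m := 1680) (dm := 11)
    (gens := Fi22.Orb.B2G) (P := Fi22.Orb.B2P) (Inv := Fi22.Orb.B2Inv)
    (by decide +kernel) (by decide +kernel) (by decide +kernel) h3
  have h1 := orbit_step Fi22.matches_ρ (base := [(0 : Fin 3510)]) (β := 1) (m := 2816) (dm := 12)
    (gens := Fi22.Orb.B1G) (P := Fi22.Orb.B1P) (Inv := Fi22.Orb.B1Inv)
    (by decide +kernel) (by decide +kernel) (by decide +kernel) h2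
  have h0 := orbit_step Fi22.matches_ρ (base := []) (β := 0) (m := 3510) (dm := 12)
    (gens := Fi22.Orb.B0G) (P := Fi22.Orb.B0P) (Inv := Fi22.Orb.B0Inv)
    (by decide +kernel) (by decide +kernel) (by decide +kernel) h1
  simpa [baseStab, ← mul_assoc] using h0

theorem eq_of_base {v w : List Nat} (hv : checkLetters 9 [v] = true) (hw : checkLetters 9 [w] = true)
    (h : allList (fun b => Nat.beq (follow (tget Fi22.Top.Tb) b v) (follow (tget Fi22.Top.Tb) b w))
      (base.map Fin.val) = true) : ev Fi22.Lg v = ev Fi22.Lg w :=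
  Fi22.matches_ρ.ev_eq_of_base base_bot (Fi22.len_Lg.symm ▸ hv) (Fi22.len_Lg.symm ▸ hw) h

theorem mem_H_of_fix {gens : List (List Nat)} (hl : checkLetters (Fi22.Lg).length gens = true)
    (hf : checkFix Fi22.Top.Tb [0] gens = true) : ∀ w ∈ gens, ev Fi22.Lg w ∈ Fi22.H := by
  intro w hw
  have h := Fi22.matches_ρ.ev_mem_baseStab (base := [(⟨0, by decide⟩ : Fin 3510)]) hl hf w hw
  rw [Fi22.index_and_eq.2]
  exact ((mem_foldl_inf _ ⊤).mp h).2 _ (by simp)

theorem card_H : Nat.card Fi22.H = 18393661440 := by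
  have h := Subgroup.card_mul_index Fi22.H
  rw [Fi22.index_and_eq.1, Fi22.card_and_injective.1] at h
  omega

/-- The subgroup fixing five orbit points. -/
noncomputable def K : Subgroup Cfsg.Spor.Fi22 :=
  Fi22.H ⊓ baseStab Fi22.ρ [(6 : Fin 3510), 10, 40, 298, 1564]

theorem card_K : Nat.card K ≤ 2 := by
  have := Fi22.card_le.1
  have h5 : Nat.card K ≤ Nat.card (Fi22.H ⊓ baseStab Fi22.ρ [(6 : Fin 3510), 10, 40, 298, 1564] :
      Subgroup Cfsg.Spor.Fi22) := le_rfl
  have h4 := orbit_step_in Fi22.matches_ρ Fi22.H (base := [(6 : Fin 3510), 10, 40, 298]) (β := 1564)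
    (m := 6) (dm := 3) (gens := Orb.K4G) (P := Orb.K4P) (Inv := Orb.K4Inv)
    (by decide +kernel) (by decide +kernel) (by decide +kernel)
    (mem_H_of_fix (by decide +kernel) (by decide +kernel)) h5
  have h3 := orbit_step_in Fi22.matches_ρ Fi22.H (base := [(6 : Fin 3510), 10, 40]) (β := 298)
    (m := 32) (dm := 5) (gens := Orb.K3G) (P := Orb.K3P) (Inv := Orb.K3Inv)
    (by decide +kernel) (by decide +kernel) (by decide +kernel)
    (mem_H_of_fix (by decide +kernel) (by decide +kernel)) h4
  have h2 := orbit_step_in Fi22.matches_ρ Fi22.H (base := [(6 : Fin 3510), 10]) (β := 40)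
    (m := 135) (dm := 8) (gens := Orb.K2G) (P := Orb.K2P) (Inv := Orb.K2Inv)
    (by decide +kernel) (by decide +kernel) (by decide +kernel)
    (mem_H_of_fix (by decide +kernel) (by decide +kernel)) h3
  have h1 := orbit_step_in Fi22.matches_ρ Fi22.H (base := [(6 : Fin 3510)]) (β := 10)
    (m := 512) (dm := 9) (gens := Orb.K1G) (P := Orb.K1P) (Inv := Orb.K1Inv)
    (by decide +kernel) (by decide +kernel) (by decide +kernel)
    (mem_H_of_fix (by decide +kernel) (by decide +kernel)) h2
  have h0 := orbit_step_in Fi22.matches_ρ Fi22.H (base := []) (β := 6)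
    (m := 693) (dm := 10) (gens := Orb.K0G) (P := Orb.K0P) (Inv := Orb.K0Inv)
    (by decide +kernel) (by decide +kernel) (by decide +kernel)
    (mem_H_of_fix (by decide +kernel) (by decide +kernel)) h1
  have e : Nat.card (Fi22.H ⊓ baseStab Fi22.ρ ([] : List (Fin 3510)) : Subgroup Cfsg.Spor.Fi22) =
      Nat.card Fi22.H := by simp [baseStab]
  rw [e, card_H] at h0
  omega

theorem gen_mem (l : Fin 9) : gen l ∈ Fi22.H :=
  ev_mem_genW (by
    have hl : l.val < Fi22.Top.subs.length := subs_len.symm ▸ l.isLt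
    simp [List.getD_eq_getElem?_getD, List.getElem?_eq_getElem hl])

/-- A generator in the stabiliser. -/
noncomputable def gH (l : Fin 9) : Fi22.H := ⟨gen l, gen_mem l⟩

theorem closure_gH : Subgroup.closure (Set.range gH) = ⊤ := by
  apply Subgroup.map_injective Fi22.H.subtype_injective
  rw [MonoidHom.map_closure, ← MonoidHom.range_eq_map, Subgroup.range_subtype, ← Set.range_comp]
  conv_rhs => rw [← map_fst, Γ, MonoidHom.map_closure, pairGens, ← Set.range_comp]
  rfl

/-- The central involution. -/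
noncomputable def z : Fi22.H := gH 0

theorem z_ne_one : z ≠ 1 := by
  intro h
  have h1 : gen 0 = 1 := congrArg Subtype.val h
  have hb : (allList (fun b => Nat.beq (follow (tget Fi22.Top.Tb) b [0]) b) (base.map Fin.val)) =
      false := by decide +kernel
  have hf : checkFix Fi22.Top.Tb (base.map Fin.val) [[0]] = true := by
    refine allList_iff.mpr ?_
    intro g hg
    obtain rfl : g = [0] := by simpa using hg
    refine allList_iff.mpr fun b hb' => ?_
    obtain ⟨i, -, rfl⟩ := List.mem_map.mp hb'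
    have := Fi22.matches_ρ.follow_eq (Fi22.Top.subs.getD 0 []) i (subs_letters' 0)
    rw [show ev Fi22.Lg (Fi22.Top.subs.getD 0 []) = gen 0 from rfl, h1, map_one, inv_one,
      Equiv.Perm.one_apply] at this
    rw [Nat.beq_eq]; exact this.symm
  have := allList_iff.mp hf [0] (by simp)
  rw [hb] at this
  exact Bool.noConfusion this

theorem comm_check : (List.range 9).all (fun l =>
    checkLetters 9 [Fi22.Top.subs.getD l [] ++ [0]] && checkLetters 9 [0 :: Fi22.Top.subs.getD l []] &&
    allList (fun b => Nat.beq (follow (tget Fi22.Top.Tb) b (Fi22.Top.subs.getD l [] ++ [0]))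
      (follow (tget Fi22.Top.Tb) b (0 :: Fi22.Top.subs.getD l []))) (base.map Fin.val)) = true := by
  decide +kernel

theorem z_comm_gen (l : Fin 9) : gH l * z = z * gH l := by
  apply Subtype.ext
  have h := List.all_eq_true.mp comm_check l.val (List.mem_range.mpr l.isLt)
  simp only [Bool.and_eq_true] at h
  have he := eq_of_base h.1.1 h.1.2 h.2
  rw [ev_append, ev_cons] at he
  show gen l * gen 0 = gen 0 * gen l
  have h0 : gen 0 = fl Fi22.Lg 0 := by
    show ev Fi22.Lg [0] = _
    simp
  rw [h0]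
  simpa [gen] using he

theorem z_center : z ∈ Subgroup.center Fi22.H := by
  rw [Subgroup.mem_center_iff]
  intro g
  have hg : g ∈ Subgroup.centralizer ({z} : Set Fi22.H) := by
    have : Subgroup.closure (Set.range gH) ≤ Subgroup.centralizer ({z} : Set Fi22.H) := by
      rw [Subgroup.closure_le]
      rintro x ⟨l, rfl⟩
      exact Subgroup.mem_centralizer_singleton_iff.mpr (z_comm_gen l)
    exact this (closure_gH ▸ Subgroup.mem_top g)
  exact Subgroup.mem_centralizer_singleton_iff.mp hg

theorem tvU_zero : tvU 0 = 1 := by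
  refine Subtype.ext (Subtype.ext ?_)
  show Cfsg.unitaryTransvection 6 2 (tvF 0) (1 : F4) = 1
  decide +kernel

theorem pair_mem (l : Fin 9) : ((gH l : Cfsg.Spor.Fi22), tvU l) ∈ Γ :=
  Subgroup.subset_closure ⟨l, rfl⟩

theorem z_ker : z ∈ θ.ker := by
  rw [MonoidHom.mem_ker, θ_eq (h := z) (pair_mem 0), tvU_zero]
  rfl

theorem beqL_self : ∀ t : List F4, CfsgLib.Coset.G24.beqL t t = true := by
  intro t; induction t with
  | nil => rfl
  | cons a t ih => simp [CfsgLib.Coset.G24.beqL, ih]

theorem fix_of_pt {j : Fin 693} {p : Fin 3510} {g : Equiv.Perm (Fin 3510)} (hp : pt j = p)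
    (h : g (pt j) = pt j) : g p = p := hp ▸ h

theorem ker_le {h : Fi22.H} (hh : h ∈ θ.ker) : (h : Cfsg.Spor.Fi22) ∈ K := by
  obtain ⟨s, hs⟩ := exists_pair h
  rw [MonoidHom.mem_ker, θ_eq hs, QuotientGroup.eq_one_iff,
    CfsgLib.Unitary.mem_center_SU_iff hF (by norm_num)] at hh
  obtain ⟨a, ha⟩ := hh
  refine Subgroup.mem_inf.mpr ⟨h.2, (mem_foldl_inf _ ⊤).mpr ⟨trivial, fun b hb => ?_⟩⟩
  rw [mem_pstab]
  have hfix : ∀ j : Fin 693, j.val ∈ [0, 1, 10, 122, 355] →
      Fi22.ρ (h : Cfsg.Spor.Fi22) (pt j) = pt j := by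
    intro j hj
    obtain ⟨j', c, hc, hp, hv⟩ := compat_of_mem hs j
    simp only [mat] at hv
    rw [ha, Matrix.smul_mulVec, Matrix.one_mulVec] at hv
    have hb := of_allBelow (List.all_eq_true.mp base_ok j.val hj) j'.val j'.isLt
    rw [hp]
    rw [Bool.or_eq_true] at hb
    rcases hb with hb | hb
    · rw [Fin.ext (Nat.eq_of_beq_eq_true hb).symm]
    · exfalso
      have ha0 : a ≠ 0 := by
        rintro rfl
        have hdet := s.1.2
        rw [ha, zero_smul, Matrix.det_zero] at hdet
        exact zero_ne_one hdet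
      have hm : isMult (vecL j.val) (vecL j'.val) = true := by
        rw [isMult, List.any_eq_true]
        refine ⟨a⁻¹ * c, ?_, ?_⟩
        · have hne : a⁻¹ * c ≠ 0 := mul_ne_zero (inv_ne_zero ha0) hc
          revert hne; generalize a⁻¹ * c = d; intro hne
          cases d <;> first | exact absurd rfl hne | simp
        · rw [vecL_smul, mul_smul, ← hv, smul_smul, inv_mul_cancel₀ ha0, one_smul, toVec_vecF]
          exact beqL_self _
      rw [hm] at hb
      exact Bool.noConfusion hb
  fin_cases hb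
  · exact fix_of_pt (j := ⟨0, by norm_num⟩) (by decide +kernel) (hfix _ (by simp))
  · exact fix_of_pt (j := ⟨1, by norm_num⟩) (by decide +kernel) (hfix _ (by simp))
  · exact fix_of_pt (j := ⟨10, by norm_num⟩) (by decide +kernel) (hfix _ (by simp))
  · exact fix_of_pt (j := ⟨122, by norm_num⟩) (by decide +kernel) (hfix _ (by simp))
  · exact fix_of_pt (j := ⟨355, by norm_num⟩) (by decide +kernel) (hfix _ (by simp))
theorem finite_H : Finite Fi22.H := by
  have := Fi22.card_le.1
  infer_instance

theorem ker_eq : θ.ker = Subgroup.zpowers z := by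
  have := Fi22.card_le.1
  symm
  refine Subgroup.eq_of_le_of_card_ge ((Subgroup.zpowers_le).mpr z_ker) ?_
  have hz2 : Nat.card (Subgroup.zpowers z) = orderOf z := Nat.card_zpowers z
  have h2 : 2 ≤ orderOf z := by
    have := orderOf_pos z
    have : orderOf z ≠ 1 := fun h => z_ne_one (orderOf_eq_one_iff.mp h)
    omega
  rw [hz2]
  refine le_trans ?_ h2
  refine le_trans ?_ card_K
  exact Nat.card_le_card_of_injective (fun x : θ.ker => (⟨(x.1 : Cfsg.Spor.Fi22), ker_le x.2⟩ : K))
    fun a b hab => Subtype.ext (Subtype.ext (congrArg (fun y : K => (y : Cfsg.Spor.Fi22)) hab))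

theorem card_ker : Nat.card θ.ker = 2 := by
  have := Fi22.card_le.1
  refine le_antisymm ?_ ?_
  · refine le_trans ?_ card_K
    exact Nat.card_le_card_of_injective (fun x : θ.ker => (⟨(x.1 : Cfsg.Spor.Fi22), ker_le x.2⟩ : K))
      fun a b hab => Subtype.ext (Subtype.ext (congrArg (fun y : K => (y : Cfsg.Spor.Fi22)) hab))
  · rw [ker_eq, Nat.card_zpowers]
    have := orderOf_pos z
    have : orderOf z ≠ 1 := fun h => z_ne_one (orderOf_eq_one_iff.mp h)
    omega

theorem card_PSU : Nat.card (Cfsg.PSU 6 F4 2) = 9196830720 := by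
  have h := CfsgLib.Unitary.card_PSU_mul (F := F4) hF (n := 6) (by norm_num)
  rw [CfsgLib.Unitary.card_GU hF] at h
  have e : 2 ^ (6 * (6 - 1) / 2) * ∏ i ∈ Finset.range 6,
      (if Even i then 2 ^ (i + 1) + 1 else 2 ^ (i + 1) - 1) = 9 * 9196830720 := by decide +kernel
  rw [e, show Nat.gcd 6 (2 + 1) = 3 by decide] at h
  omega

theorem surjective_θ : Function.Surjective θ := by
  have := Fi22.card_le.1
  rw [← MonoidHom.range_eq_top]
  refine Subgroup.eq_top_of_card_eq _ ?_
  have h := Subgroup.card_mul_index θ.ker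
  rw [Subgroup.index_ker, card_ker, card_H] at h
  rw [card_PSU]
  omega

theorem center_eq : Subgroup.center Fi22.H = θ.ker := by
  refine le_antisymm (fun c hc => ?_) ?_
  · have hcen : θ c ∈ Subgroup.center (Cfsg.PSU 6 F4 2) := by
      rw [Subgroup.mem_center_iff]
      intro y
      obtain ⟨x, rfl⟩ := surjective_θ y
      rw [← map_mul, ← map_mul, Subgroup.mem_center_iff.mp hc x]
    haveI := CfsgLib.Unitary.isSimpleGroup_PSU (F := F4) hF (n := 6) (by norm_num) (by omega)
    have hn : (Subgroup.center (Cfsg.PSU 6 F4 2)).Normal := inferInstance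
    rcases hn.eq_bot_or_eq_top with hbot | htop
    · rwa [hbot, Subgroup.mem_bot] at hcen
    · exfalso
      letI : CommGroup (Cfsg.PSU 6 F4 2) := Group.commGroupOfCenterEqTop htop
      have hp := IsSimpleGroup.prime_card (α := Cfsg.PSU 6 F4 2)
      rw [card_PSU] at hp
      revert hp
      norm_num
  · rw [ker_eq, Subgroup.zpowers_le]; exact z_center

/-- Two generators are joined by a braid relation. -/
theorem braid_check : ([(1, 2), (2, 3), (3, 4), (4, 5), (2, 6), (6, 7), (7, 8), (4, 8)] :
    List (Nat × Nat)).all (fun p =>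
      checkLetters 9 [(Fi22.Top.subs.getD p.1 [] ++ Fi22.Top.subs.getD p.2 []) ++
        (Fi22.Top.subs.getD p.1 [] ++ Fi22.Top.subs.getD p.2 []) ++
        (Fi22.Top.subs.getD p.1 [] ++ Fi22.Top.subs.getD p.2 [])] &&
      allList (fun b => Nat.beq (follow (tget Fi22.Top.Tb) b
        ((Fi22.Top.subs.getD p.1 [] ++ Fi22.Top.subs.getD p.2 []) ++
        (Fi22.Top.subs.getD p.1 [] ++ Fi22.Top.subs.getD p.2 []) ++
        (Fi22.Top.subs.getD p.1 [] ++ Fi22.Top.subs.getD p.2 [])))
        (follow (tget Fi22.Top.Tb) b [])) (base.map Fin.val)) = true := by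
  decide +kernel

theorem root_check : (checkLetters 9 [root.flatMap fun i => Fi22.Top.subs.getD (i + 1) []] &&
    allList (fun b => Nat.beq (follow (tget Fi22.Top.Tb) b
      (root.flatMap fun i => Fi22.Top.subs.getD (i + 1) []))
      (follow (tget Fi22.Top.Tb) b [0])) (base.map Fin.val)) = true := by decide +kernel

/-- A word in the eight non-central generators, in the stabiliser. -/
noncomputable def rootEl : List Nat → Fi22.H
  | [] => 1
  | i :: w => gH (Fin.ofNat 9 (i + 1)) * rootEl w

theorem rootEl_val : ∀ w : List Nat, (∀ i ∈ w, i < 8) →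
    (rootEl w : Cfsg.Spor.Fi22) = ev Fi22.Lg (w.flatMap fun i => Fi22.Top.subs.getD (i + 1) []) := by
  intro w
  induction w with
  | nil => intro _; simp [rootEl]
  | cons i w ih =>
    intro h
    have hi : i + 1 < 9 := by have := h i (by simp); omega
    rw [rootEl, List.flatMap_cons, ev_append, ← ih fun j hj => h j (by simp [hj])]
    simp [gH, gen, Nat.mod_eq_of_lt hi]

theorem z_mem_of_index_two {L : Subgroup Fi22.H} (hL : L.index = 2) : z ∈ L := by
  have hb : ∀ p q : Fin 9, (p.val, q.val) ∈ ([(1, 2), (2, 3), (3, 4), (4, 5), (2, 6), (6, 7), (7, 8),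
      (4, 8)] : List (Nat × Nat)) → (gH p ∈ L ↔ gH q ∈ L) := by
    intro p q hpq
    have h := List.all_eq_true.mp braid_check _ hpq
    rw [Bool.and_eq_true] at h
    have he := eq_of_base h.1 (w := []) rfl h.2
    rw [ev_append, ev_append, ev_append] at he
    have hx : (gH p * gH q) * (gH p * gH q) * (gH p * gH q) = 1 := by
      apply Subtype.ext
      simpa [gH, gen] using he
    have hsq : (gH p * gH q) * (gH p * gH q) ∈ L :=
      (Subgroup.mul_mem_iff_of_index_two hL).mpr Iff.rfl
    have hm : (gH p * gH q) ∈ L := by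
      have h1 : (gH p * gH q) * (gH p * gH q) * (gH p * gH q) ∈ L := hx ▸ one_mem L
      exact (Subgroup.mul_mem_cancel_left L hsq).mp h1
    exact (Subgroup.mul_mem_iff_of_index_two hL).mp hm
  have hall : ∀ i < 8, (gH (Fin.ofNat 9 (i + 1)) ∈ L ↔ gH 1 ∈ L) := by
    have b1 := hb 1 2 (by decide); have b2 := hb 2 3 (by decide); have b3 := hb 3 4 (by decide)
    have b4 := hb 4 5 (by decide); have b5 := hb 2 6 (by decide); have b6 := hb 6 7 (by decide)
    have b7 := hb 7 8 (by decide)
    intro i hi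
    interval_cases i
    · exact Iff.rfl
    · exact b1.symm
    · exact b2.symm.trans b1.symm
    · exact b3.symm.trans (b2.symm.trans b1.symm)
    · exact b4.symm.trans (b3.symm.trans (b2.symm.trans b1.symm))
    · exact b5.symm.trans b1.symm
    · exact b6.symm.trans (b5.symm.trans b1.symm)
    · exact b7.symm.trans (b6.symm.trans (b5.symm.trans b1.symm))
  have par : ∀ w : List Nat, (∀ i ∈ w, i < 8) → (rootEl w ∈ L ↔ (Even w.length ∨ gH 1 ∈ L)) := by
    intro w
    induction w with
    | nil => intro _; simp [rootEl, one_mem]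
    | cons i w ih =>
      intro h
      rw [rootEl, Subgroup.mul_mem_iff_of_index_two hL, hall i (h i (by simp)),
        ih fun j hj => h j (by simp [hj]), List.length_cons, Nat.even_add_one]
      tauto
  have hl : ∀ i ∈ root, i < 8 := by decide
  have hz : rootEl root = z := by
    apply Subtype.ext
    have h := root_check
    rw [Bool.and_eq_true] at h
    rw [rootEl_val root hl]
    exact eq_of_base h.1 (w := [0]) rfl h.2
  rw [← hz, par root hl]
  exact Or.inl (by decide)

theorem isDoubleCover : Cfsg.IsNonsplitDoubleCover Fi22.H (Cfsg.PSU 6 F4 2) := by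
  refine ⟨by rw [center_eq, card_ker], ?_, ?_⟩
  · exact ⟨(QuotientGroup.quotientMulEquivOfEq center_eq).trans
      (QuotientGroup.quotientKerEquivOfSurjective θ surjective_θ)⟩
  · intro L hL
    have hcard : L.index = 2 := by
      rw [hL.index_eq_card, center_eq, card_ker]
    have hz : z ∈ Subgroup.center Fi22.H ⊓ L := ⟨z_center, z_mem_of_index_two hcard⟩
    rw [hL.disjoint.eq_bot, Subgroup.mem_bot] at hz
    exact z_ne_one hz

end CfsgLib.Coset.U62
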