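import Cfsg.Agent.Coset.G24.Field

/-! Data identifying an orbit in `Cfsg.Spor.Fi22` with the isotropic points of a hermitian form. -/

set_option autoImplicit false
set_option maxRecDepth 100000

namespace CfsgLib.Coset.U62

open CfsgLib.Coset.G24

/-- The transvections matching the generators, the first being trivial. -/
def mats : List (List (List F4)) :=
  [[[.o, .z, .z, .z, .z, .z], [.z, .o, .z, .z, .z, .z], [.z, .z, .o, .z, .z, .z], [.z, .z, .z, .o, .z, .z], [.z, .z, .z, .z, .o, .z], [.z, .z, .z, .z, .z, .o]],[[.o, .z, .z, .z, .z, .z], [.z, .o, .z, .z, .z, .z], [.z, .z, .o, .z, .z, .z], [.z, .z, .z, .o, .z, .z], [.z, .z, .z, .z, .z, .o], [.z, .z, .z, .z, .o, .z]],[[.o, .z, .z, .z, .z, .z], [.z, .o, .z, .z, .z, .z], [.z, .z, .o, .z, .z, .z], [.z, .z, .z, .o, .z, .z], [.z, .z, .z, .z, .z, .v], [.z, .z, .z, .z, .w, .z]],[[.o, .z, .z, .z, .z, .z], [.z, .o, .z, .z, .z, .z], [.z, .z,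 .z, .o, .o, .o], [.z, .z, .o, .z, .o, .o], [.z, .z, .o, .o, .z, .o], [.z, .z, .o, .o, .o, .z]],[[.o, .z, .z, .z, .z, .z], [.z, .o, .z, .z, .z, .z], [.z, .z, .z, .v, .z, .z], [.z, .z, .w, .z, .z, .z], [.z, .z, .z, .z, .o, .z], [.z, .z, .z, .z, .z, .o]],[[.o, .z, .z, .z, .z, .z], [.z, .o, .z, .z, .z, .z], [.z, .z, .z, .o, .z, .z], [.z, .z, .o, .z, .z, .z], [.z, .z, .z, .z, .o, .z], [.z, .z, .z, .z, .z, .o]],[[.z, .o, .z, .z, .o, .o], [.o, .z, .z, .z, .o, .o], [.z, .z, .o, .z, .z, .z], [.z, .z, .z, .o, .z, .z], [.o, .o, .z, .z, .z, .o], [.o, .o, .z, .z, .o, .z]],[[.z, .v, .z, .z, .z, .z], [.w, .z, .z, .z, .z, .z], [.z, .z, .o, .z, .z, .z], [.z, .z, .z, .o, .z, .z], [.z, .z, .z, .z, .o, .z], [.z, .z, .z, .z, .z, .o]],[[.z, .o, .v, .v, .z, .z], [.o, .z, .v, .v, .z, .z], [.w, .w, .z, .o, .z, .z], [.w, .w, .o, .z, .z, .z], [.z, .z, .z, .z, .o, .z], [.z, .z, .z, .z, .z, .o]]]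

/-- Positions of `e i + e j` and of `e i + w e j`. -/
def pairs : List (Nat × Nat × Nat × Nat) := [(0, 1, 664, 46), (0, 2, 145, 264), (0, 3, 190, 214), (0, 4, 292, 250), (0, 5, 361, 209), (1, 2, 192, 340), (1, 3, 148, 263), (1, 4, 325, 206), (1, 5, 293, 247), (2, 3, 105, 37), (2, 4, 684, 606), (2, 5, 663, 649), (3, 4, 639, 645), (3, 5, 686, 574), (4, 5, 0, 2)]

/-- An even word in the eight transpositions equal to the central involution. -/
def root : List Nat := [2, 7, 3, 1, 5, 0, 2, 7, 3, 1, 5, 0, 2, 7, 3, 1, 5, 0, 2, 7, 3, 1, 5, 0, 2, 7, 3, 1, 5, 0]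

/-- The centres of the transvections. -/
def tvs : List (List F4) := [[.z, .z, .z, .z, .z, .z], [.z, .z, .z, .z, .o, .o], [.z, .z, .z, .z, .o, .w], [.z, .z, .o, .o, .o, .o], [.z, .z, .o, .w, .z, .z], [.z, .z, .o, .o, .z, .z], [.o, .o, .z, .z, .o, .o], [.o, .w, .z, .z, .z, .z], [.o, .o, .w, .w, .z, .z]]

end CfsgLib.Coset.U62
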