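import Cfsg.Agent.Coset.Fi22.Order
import Cfsg.Agent.Coset.G24.MatAction
import Cfsg.Agent.Coset.U62.Data
import Cfsg.Agent.Coset.U62.OrbData
import Mathlib.Tactic.IntervalCases

/-! Checks comparing an orbit in `Cfsg.Spor.Fi22` with isotropic points over four elements. -/

set_option autoImplicit false
set_option maxRecDepth 100000
set_option Elab.async false

namespace CfsgLib.Coset.U62

open CfsgLib.Coset.G24 (F4 toVec rowsOf mulVecK beqL)

/-- A field element from a code. -/
noncomputable def dec (a : Nat) : F4 :=
  cond (Nat.beq a 1) F4.o (cond (Nat.beq a 2) F4.w (cond (Nat.beq a 3) F4.v F4.z))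

/-- The vector of a point, as a list. -/
noncomputable def vecL (j : Nat) : List F4 :=
  [dec (Nat.land (Orb.Code j) 3), dec (Nat.land (Nat.shiftRight (Orb.Code j) 2) 3),
    dec (Nat.land (Nat.shiftRight (Orb.Code j) 4) 3), dec (Nat.land (Nat.shiftRight (Orb.Code j) 6) 3),
    dec (Nat.land (Nat.shiftRight (Orb.Code j) 8) 3), dec (Nat.land (Nat.shiftRight (Orb.Code j) 10) 3)]

/-- The vector of a point. -/
noncomputable def vecF (j : Nat) : Fin 6 → F4 := fun i => (vecL j).getD i F4.z

theorem toVec_vecF (j : Nat) : toVec (Equiv.refl (Fin 6)) (vecF j) = vecL j := by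
  simp [toVec, vecF, List.ofFn_succ, vecL]

/-- A non-zero multiple. -/
noncomputable def isMult (r t : List F4) : Bool :=
  [F4.o, F4.w, F4.v].any fun c => beqL r (t.map fun x => c * x)

/-- A word acts on the points as a matrix does on the vectors. -/
noncomputable def checkAct (w : List Nat) (M : List (List F4)) : Bool :=
  allBelow 10 693 fun j =>
    Nat.ble (Nat.add (field (Orb.UInv (follow (tget Fi22.Top.Tb) (opt Orb.UP j) w)) 0) 1) 693 &&
    Nat.beq (follow (tget Fi22.Top.Tb)
      (opt Orb.UP (field (Orb.UInv (follow (tget Fi22.Top.Tb) (opt Orb.UP j) w)) 0)) w)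
      (opt Orb.UP j) &&
    mulVecK M (vecL j) fun r =>
      isMult r (vecL (field (Orb.UInv (follow (tget Fi22.Top.Tb) (opt Orb.UP j) w)) 0))

/-- The points are distinct and in range. -/
noncomputable def checkPts : Bool :=
  allBelow 10 693 fun j => Nat.ble (Nat.add (opt Orb.UP j) 1) 3510 &&
    Nat.beq (field (Orb.UInv (opt Orb.UP j)) 0) j

theorem pts_ok : checkPts = true := by decide +kernel

theorem act_ok0 : checkAct (Fi22.Top.subs.getD 0 []) (mats.getD 0 []) = true := by decide +kernel
theorem act_ok1 : checkAct (Fi22.Top.subs.getD 1 []) (mats.getD 1 []) = true := by decide +kernel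
theorem act_ok2 : checkAct (Fi22.Top.subs.getD 2 []) (mats.getD 2 []) = true := by decide +kernel
theorem act_ok3 : checkAct (Fi22.Top.subs.getD 3 []) (mats.getD 3 []) = true := by decide +kernel
theorem act_ok4 : checkAct (Fi22.Top.subs.getD 4 []) (mats.getD 4 []) = true := by decide +kernel
theorem act_ok5 : checkAct (Fi22.Top.subs.getD 5 []) (mats.getD 5 []) = true := by decide +kernel
theorem act_ok6 : checkAct (Fi22.Top.subs.getD 6 []) (mats.getD 6 []) = true := by decide +kernel
theorem act_ok7 : checkAct (Fi22.Top.subs.getD 7 []) (mats.getD 7 []) = true := by decide +kernel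
theorem act_ok8 : checkAct (Fi22.Top.subs.getD 8 []) (mats.getD 8 []) = true := by decide +kernel

theorem act_ok : ∀ l < 9, checkAct (Fi22.Top.subs.getD l []) (mats.getD l []) = true := by
  intro l hl
  interval_cases l
  exacts [act_ok0, act_ok1, act_ok2, act_ok3, act_ok4, act_ok5, act_ok6, act_ok7, act_ok8]

/-- The five base points are distinguished by their lines. -/
theorem base_ok : [0, 1, 10, 122, 355].all (fun j => allBelow 10 693 fun k =>
    Nat.beq j k || !isMult (vecL j) (vecL k)) = true := by decide +kernel

/-- Where the two vectors for each pair of coordinates are. -/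
theorem pairs_ok : pairs.all (fun t => Nat.ble (Nat.add t.2.2.1 1) 693 &&
    Nat.ble (Nat.add t.2.2.2 1) 693 &&
    beqL (vecL t.2.2.1) ((List.range 6).map fun k => if k = t.1 ∨ k = t.2.1 then F4.o else F4.z) &&
    beqL (vecL t.2.2.2) ((List.range 6).map fun k =>
      if k = t.1 then F4.o else if k = t.2.1 then F4.w else F4.z)) = true := by decide +kernel

theorem pairs_cover : ∀ i < 6, ∀ j < 6, i < j → pairs.any (fun t => t.1 == i && t.2.1 == j) = true := by
  intro i hi j hj h
  interval_cases i <;> interval_cases j <;> decide +kernel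

end CfsgLib.Coset.U62
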