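import Cfsg.Agent.Coset.U62.Kernel
import Cfsg.Agent.Unitary.Simple
import Mathlib.GroupTheory.OrderOfElement

/-! The maximal subgroup of `Cfsg.Spor.Fi22` fixing a point is a double cover of `PSU(6, 2)`. -/

set_option autoImplicit false
set_option maxRecDepth 100000
set_option Elab.async false

namespace CfsgLib.Coset.U62

open CfsgLib.Coset.G24 (F4 toVec rowsOf mulVecK beqL eq_of_beqL)
open Matrix

/-- The special unitary group. -/
abbrev U : Type := Cfsg.SU 6 F4 2

theorem hF : Nat.card F4 = 2 ^ 2 := by rw [Nat.card_eq_fintype_card, F4.card_eq]; rfl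

/-- The centre of a transvection. -/
def tvF (l : Fin 9) : Fin 6 → F4 := fun i => (tvs.getD l.val []).getD i F4.z

theorem tvF_iso : ∀ l : Fin 9, Cfsg.hermForm 6 F4 2 (tvF l) (tvF l) = 0 := by decide +kernel

theorem one_sq : (1 : F4) + (1 : F4) ^ 2 = 0 := by decide +kernel

/-- The image of a generator. -/
noncomputable def tvU (l : Fin 9) : U := CfsgLib.Unitary.suTv 6 (tvF l) 1 (tvF_iso l) one_sq hF

/-- The matrix of an element. -/
def mat (s : U) : Matrix (Fin 6) (Fin 6) F4 := (s.1 : Matrix (Fin 6) (Fin 6) F4)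

theorem rows_check : ∀ l : Fin 9, rowsOf (Equiv.refl (Fin 6))
    (Cfsg.unitaryTransvection 6 2 (tvF l) (1 : F4)) = mats.getD l.val [] := by decide +kernel

theorem rows_tvU (l : Fin 9) : rowsOf (Equiv.refl (Fin 6)) (mat (tvU l)) = mats.getD l.val [] :=
  rows_check l

theorem mat_mul (s t : U) : mat (s * t) = mat s * mat t := rfl

theorem mat_one : mat 1 = 1 := rfl

/-- The generators in the sporadic group. -/
noncomputable def gen (l : Fin 9) : Cfsg.Spor.Fi22 := ev Fi22.Lg (Fi22.Top.subs.getD l.val [])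

theorem subs_len : Fi22.Top.subs.length = 9 := rfl

theorem subs_letters' (l : Nat) : ∀ x ∈ Fi22.Top.subs.getD l [], x < (Fi22.Lg).length :=
  letters_getD Fi22.subs_letters l

/-- A point of the orbit. -/
noncomputable def pt (j : Fin 693) : Fin 3510 :=
  ⟨opt Orb.UP j, by
    have h := of_allBelow pts_ok j.val j.isLt
    rw [Bool.and_eq_true] at h
    exact Nat.ble_eq.mp h.1⟩

theorem inv_pt (j : Fin 693) : field (Orb.UInv (pt j).val) 0 = j.val := by
  have h := of_allBelow pts_ok j.val j.isLt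
  rw [Bool.and_eq_true] at h
  exact Nat.eq_of_beq_eq_true h.2

theorem pt_injective : Function.Injective pt := fun a b h =>
  Fin.ext (by rw [← inv_pt a, h, inv_pt b])

/-- Compatible pairs: the same permutation of points and of lines. -/
def Compat (x : Cfsg.Spor.Fi22 × U) : Prop :=
  ∀ j : Fin 693, ∃ (j' : Fin 693) (c : F4), c ≠ 0 ∧ Fi22.ρ x.1 (pt j) = pt j' ∧
    mat x.2 *ᵥ vecF j = c • vecF j'

theorem compat_one : Compat 1 := fun j =>
  ⟨j, 1, one_ne_zero, by simp, by simp [mat_one]⟩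

theorem compat_mul {x y : Cfsg.Spor.Fi22 × U} (hx : Compat x) (hy : Compat y) : Compat (x * y) := by
  intro j
  obtain ⟨j₁, c₁, hc₁, hp₁, hv₁⟩ := hy j
  obtain ⟨j₂, c₂, hc₂, hp₂, hv₂⟩ := hx j₁
  refine ⟨j₂, c₁ * c₂, mul_ne_zero hc₁ hc₂, ?_, ?_⟩
  · rw [Prod.fst_mul, map_mul, Equiv.Perm.mul_apply, hp₁, hp₂]
  · rw [Prod.snd_mul, mat_mul, ← Matrix.mulVec_mulVec, hv₁, Matrix.mulVec_smul, hv₂, smul_smul]

theorem isMult_spec {r t : List F4} (h : isMult r t = true) :
    ∃ c : F4, c ≠ 0 ∧ r = t.map fun x => c * x := by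
  obtain ⟨c, hc, h⟩ := List.any_eq_true.mp h
  refine ⟨c, ?_, eq_of_beqL h⟩
  fin_cases hc <;> decide

theorem vecL_smul (c : F4) (j : Nat) :
    (vecL j).map (fun x => c * x) = toVec (Equiv.refl (Fin 6)) (c • vecF j) := by
  rw [← toVec_vecF, toVec, toVec, List.map_ofFn]
  rfl

theorem compat_gen (l : Fin 9) : Compat (gen l, tvU l) := by
  intro j
  have h := of_allBelow (act_ok l.val l.isLt) j.val j.isLt
  simp only [Bool.and_eq_true] at h
  obtain ⟨⟨h1, h2⟩, h3⟩ := h
  generalize hq : field (Orb.UInv (follow (tget Fi22.Top.Tb) (opt Orb.UP j.val)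
    (Fi22.Top.subs.getD l.val []))) 0 = q at h1 h2 h3
  rw [← rows_tvU l, CfsgLib.Coset.G24.mulVecK_eq, ← toVec_vecF,
    CfsgLib.Coset.G24.mulVec_rows] at h3
  obtain ⟨c, hc, h3⟩ := isMult_spec h3
  refine ⟨⟨q, Nat.ble_eq.mp h1⟩, c, hc, ?_, ?_⟩
  · have hf : (((Fi22.ρ (gen l))⁻¹ (pt ⟨q, Nat.ble_eq.mp h1⟩) : Fin 3510) : Nat) = (pt j).val :=
      (Fi22.matches_ρ.follow_eq _ _ (subs_letters' l.val)).trans (Nat.eq_of_beq_eq_true h2)
    have := Fin.ext hf
    rw [Equiv.Perm.inv_def, Equiv.symm_apply_eq] at this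
    exact this.symm
  · rw [vecL_smul] at h3
    exact CfsgLib.Coset.G24.toVec_injective _ h3

/-- The paired generators. -/
def pairGens : Set (Cfsg.Spor.Fi22 × U) := Set.range fun l : Fin 9 => (gen l, tvU l)

/-- The graph of the correspondence. -/
def Γ : Subgroup (Cfsg.Spor.Fi22 × U) := Subgroup.closure pairGens

theorem finite_pair : Finite (Cfsg.Spor.Fi22 × U) := by
  have := Fi22.card_le.1
  infer_instance

theorem compat_of_mem {x : Cfsg.Spor.Fi22 × U} (hx : x ∈ Γ) : Compat x := by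
  have := finite_pair
  have h : x ∈ Submonoid.closure pairGens := by
    rw [← Subgroup.closure_toSubmonoid_of_finite]; exact hx
  induction h using Submonoid.closure_induction with
  | mem y hy => obtain ⟨l, rfl⟩ := hy; exact compat_gen l
  | one => exact compat_one
  | mul a b ha hb iha ihb =>
    refine compat_mul (iha ?_) (ihb ?_)
    · exact Subgroup.le_closure_toSubmonoid _ ha
    · exact Subgroup.le_closure_toSubmonoid _ hb

theorem map_fst : Γ.map (MonoidHom.fst _ _) = Fi22.H := by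
  rw [Γ, MonoidHom.map_closure, pairGens, ← Set.range_comp]
  show _ = genW Fi22.Lg Fi22.Top.subs
  rw [genW]
  congr 1
  ext x
  constructor
  · rintro ⟨l, rfl⟩
    have hl : l.val < Fi22.Top.subs.length := subs_len.symm ▸ l.isLt
    refine ⟨_, List.getElem_mem hl, ?_⟩
    simp [gen, List.getD_eq_getElem?_getD, List.getElem?_eq_getElem hl]
  · rintro ⟨w, hw, rfl⟩
    obtain ⟨i, hi, rfl⟩ := List.getElem_of_mem hw
    exact ⟨⟨i, subs_len ▸ hi⟩,
      by simp [gen, List.getD_eq_getElem?_getD, List.getElem?_eq_getElem hi]⟩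

theorem scalar_of_fix {s : U} (h : ∀ j : Fin 693, ∃ c : F4, mat s *ᵥ vecF j = c • vecF j) :
    s ∈ Subgroup.center U := by
  have key : ∀ i k : Fin 6, i < k → (∀ r, r ≠ i → r ≠ k → mat s r i = 0 ∧ mat s r k = 0) ∧
      mat s i i + mat s i k = mat s k i + mat s k k := by
    intro i k hik
    have hp := List.any_eq_true.mp (pairs_cover i.val i.isLt k.val k.isLt hik)
    obtain ⟨t, ht, he⟩ := hp
    rw [Bool.and_eq_true, beq_iff_eq, beq_iff_eq] at he
    have hc := List.all_eq_true.mp pairs_ok t ht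
    simp only [Bool.and_eq_true] at hc
    obtain ⟨⟨⟨h1, h2⟩, h3⟩, h4⟩ := hc
    have v1 : vecF t.2.2.1 = Pi.single i 1 + Pi.single k 1 := by
      apply CfsgLib.Coset.G24.toVec_injective (Equiv.refl (Fin 6))
      rw [toVec_vecF, eq_of_beqL h3, he.1, he.2]
      exact pairVec1 i k hik
    have v2 : vecF t.2.2.2 = Pi.single i 1 + Pi.single k F4.w := by
      apply CfsgLib.Coset.G24.toVec_injective (Equiv.refl (Fin 6))
      rw [toVec_vecF, eq_of_beqL h4, he.1, he.2]
      exact pairVec2 i k hik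
    obtain ⟨a, ha⟩ := h ⟨t.2.2.1, Nat.ble_eq.mp h1⟩
    obtain ⟨b, hb⟩ := h ⟨t.2.2.2, Nat.ble_eq.mp h2⟩
    simp only [v1] at ha
    simp only [v2] at hb
    have ea : ∀ r, mat s r i + mat s r k = a * ((Pi.single i 1 + Pi.single k 1 : Fin 6 → F4) r) := by
      intro r
      simpa [Matrix.mulVec_add] using congrFun ha r
    have eb : ∀ r, mat s r i + F4.w * mat s r k =
        b * ((Pi.single i 1 + Pi.single k F4.w : Fin 6 → F4) r) := by
      intro r
      simpa [Matrix.mulVec_add] using congrFun hb r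
    refine ⟨fun r hri hrk => ?_, ?_⟩
    · have e1 := ea r
      have e2 := eb r
      simp [Pi.single_apply, hri, hrk] at e1 e2
      generalize mat s r i = x at e1 e2
      generalize mat s r k = y at e1 e2
      revert e1 e2
      revert x y
      decide
    · have e1 := ea i
      have e2 := ea k
      simp [Pi.single_apply, hik.ne, hik.ne'] at e1 e2
      rw [e1, e2]
  have off : ∀ r i : Fin 6, r ≠ i → mat s r i = 0 := by
    intro r i hri
    obtain ⟨k, hkr, hki⟩ : ∃ k : Fin 6, k ≠ r ∧ k ≠ i := by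
      revert r i; decide
    rcases lt_or_gt_of_ne hki with hlt | hlt
    · exact ((key k i hlt).1 r (Ne.symm hkr) hri).2
    · exact ((key i k hlt).1 r hri (Ne.symm hkr)).1
  have diag : ∀ i k : Fin 6, mat s i i = mat s k k := by
    intro i k
    rcases lt_trichotomy i k with hlt | rfl | hlt
    · have := (key i k hlt).2
      rwa [off i k hlt.ne, off k i hlt.ne', add_zero, zero_add] at this
    · rfl
    · have := (key k i hlt).2
      rw [off i k hlt.ne', off k i hlt.ne, add_zero, zero_add] at this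
      exact this.symm
  refine (CfsgLib.Unitary.mem_center_SU_iff hF (by norm_num)).mpr ⟨mat s 0 0, ?_⟩
  ext r i
  show mat s r i = _
  rcases eq_or_ne r i with rfl | hne
  · simp [diag r 0]
  · simp [off r i hne, hne]
where
  pairVec1 : ∀ i k : Fin 6, i < k →
      ((List.range 6).map fun a => if a = i.val ∨ a = k.val then F4.o else F4.z) =
        toVec (Equiv.refl (Fin 6)) (Pi.single i (1 : F4) + Pi.single k 1) := by decide +kernel
  pairVec2 : ∀ i k : Fin 6, i < k →
      ((List.range 6).map fun a => if a = i.val then F4.o else if a = k.val then F4.w else F4.z) =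
        toVec (Equiv.refl (Fin 6)) (Pi.single i (1 : F4) + Pi.single k F4.w) := by decide +kernel

theorem mem_center_of_compat {s : U} (h : Compat (1, s)) : s ∈ Subgroup.center U := by
  refine scalar_of_fix fun j => ?_
  obtain ⟨j', c, -, hp, hv⟩ := h j
  rw [map_one, Equiv.Perm.one_apply] at hp
  exact ⟨c, by rw [hv, pt_injective hp]⟩

theorem exists_pair (h : Fi22.H) : ∃ s : U, ((h : Cfsg.Spor.Fi22), s) ∈ Γ := by
  have hh : (h : Cfsg.Spor.Fi22) ∈ Γ.map (MonoidHom.fst _ _) := by rw [map_fst]; exact h.2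
  obtain ⟨⟨a, b⟩, hm, he⟩ := hh
  exact ⟨b, by rw [← he]; exact hm⟩

/-- The correspondence as a function. -/
noncomputable def θfun (h : Fi22.H) : Cfsg.PSU 6 F4 2 :=
  QuotientGroup.mk (exists_pair h).choose

theorem θfun_eq {h : Fi22.H} {s : U} (hs : ((h : Cfsg.Spor.Fi22), s) ∈ Γ) :
    θfun h = QuotientGroup.mk s := by
  refine QuotientGroup.eq.mpr ?_
  have h' := compat_of_mem (mul_mem (inv_mem (exists_pair h).choose_spec) hs)
  rw [Prod.inv_mk, Prod.mk_mul_mk, inv_mul_cancel] at h'
  exact mem_center_of_compat h'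

/-- The correspondence. -/
noncomputable def θ : Fi22.H →* Cfsg.PSU 6 F4 2 :=
  MonoidHom.mk' θfun fun a b => by
    have := mul_mem (exists_pair a).choose_spec (exists_pair b).choose_spec
    exact θfun_eq (h := a * b) this

theorem θ_eq {h : Fi22.H} {s : U} (hs : ((h : Cfsg.Spor.Fi22), s) ∈ Γ) :
    θ h = QuotientGroup.mk s := θfun_eq hs

end CfsgLib.Coset.U62
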